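import Groth.Agent.LC.ExtDim
import Groth.Agent.LC.LiaisonLocal
import Groth.Agent.LC.DepthFlatFibre
import Groth.Agent.BlowUpLib.Local
import Groth.Agent.S2092
import Mathlib.RingTheory.Regular.Flat

/-!
# Cohen–Macaulayness of the charts of the blow-up of a regular sequence
-/

universe u

open IsLocalRing RingTheory.Sequence MvPolynomial
open scoped Pointwise

namespace Groth.Agent.BlowCM

theorem cm_of_equiv {A B : Type u} [CommRing A] [CommRing B] [LocCoh.IsCohenMacaulayLocalRing A]
    (e : A ≃+* B) : LocCoh.IsCohenMacaulayLocalRing B :=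
  haveI : IsLocalRing B := e.isLocalRing
  haveI : IsNoetherianRing B := isNoetherianRing_of_ringEquiv A e
  LC.Liaison.isCMLocal_of_ringEquiv e

/-- A Cohen–Macaulay local ring modulo a regular sequence is Cohen–Macaulay. -/
theorem isCMLocal_quot_ofList {A : Type u} [CommRing A] [h : LocCoh.IsCohenMacaulayLocalRing A]
    {rs : List A} (hrs : IsWeaklyRegular A rs) (hmem : ∀ r ∈ rs, r ∈ maximalIdeal A) :
    LocCoh.IsCohenMacaulayLocalRing (A ⧸ Ideal.ofList rs) := by
  have hle : Ideal.ofList rs ≤ maximalIdeal A := Ideal.span_le.mpr hmem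
  haveI : Nontrivial (A ⧸ Ideal.ofList rs) :=
    Ideal.Quotient.nontrivial_iff.2 fun he => (maximalIdeal.isMaximal A).ne_top (top_le_iff.1 (he ▸ hle))
  haveI : IsLocalRing (A ⧸ Ideal.ofList rs) :=
    IsLocalRing.of_surjective' (Ideal.Quotient.mk _) Ideal.Quotient.mk_surjective
  have hCM := LC.isCM_quot_ofList (R := A) A h.supportDim_eq_depth hrs hmem
  have e : (Ideal.ofList rs • ⊤ : Submodule A A) = Ideal.ofList rs := by
    rw [smul_eq_mul, Ideal.mul_top]
  refine { supportDim_eq_depth := ?_ }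
  unfold LocCoh.IsCohenMacaulayModule at hCM
  rw [Module.supportDim_eq_of_equiv (Submodule.quotEquivOfEq _ _ e),
    Module.supportDim_quotient_eq_ringKrullDim] at hCM
  rw [Module.supportDim_self_eq_ringKrullDim, hCM, LocCoh.depth, LocCoh.depth,
    ← map_maximalIdeal_of_surjective (Ideal.Quotient.mk (Ideal.ofList rs)) Ideal.Quotient.mk_surjective,
    ← LC.idealDepth_quot_self_le, LC.idealDepth_congr _ (Submodule.quotEquivOfEq _ _ e)]

/-- Only the classes modulo the first element matter for the rest of a sequence. -/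
theorem isWeaklyRegular_cons_congr {R : Type u} [CommRing R] (a : R) {rs rs' : List R}
    (e : rs.map (Ideal.Quotient.mk (Ideal.span {a})) = rs'.map (Ideal.Quotient.mk (Ideal.span {a})))
    (h : IsWeaklyRegular R (a :: rs)) : IsWeaklyRegular R (a :: rs') := by
  rw [isWeaklyRegular_cons_iff'] at h ⊢
  rwa [← e]

theorem isWeaklyRegular_map_of_flat {A S : Type u} [CommRing A] [CommRing S] [Algebra A S]
    [Module.Flat A S] {rs : List A} (h : IsWeaklyRegular A rs) :
    IsWeaklyRegular S (rs.map (algebraMap A S)) :=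
  (isWeaklyRegular_map_algebraMap_iff S S rs).mpr
    (((TensorProduct.rid A S).isWeaklyRegular_congr rs).mp (h.isWeaklyRegular_lTensor (M₂ := S)))

variable {A : Type u} [CommRing A] {n : ℕ} (a : A) (h : Fin n → A)

/-- `hⱼ - a Xⱼ`. -/
noncomputable def rel (j : Fin n) : MvPolynomial (Fin n) A := C (h j) - C a * X j

theorem exists_reduce (x : MvPolynomial (Fin n) A) :
    ∃ (N : ℕ) (c : A), C a ^ N * x - C c ∈ Ideal.span (Set.range (rel a h)) := by
  induction x using MvPolynomial.induction_on with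
  | C r => exact ⟨0, r, by simp⟩
  | add p q hp hq =>
    obtain ⟨N, c, hc⟩ := hp
    obtain ⟨M, d, hd⟩ := hq
    refine ⟨N + M, a ^ M * c + a ^ N * d, ?_⟩
    have := add_mem (Ideal.mul_mem_left _ (C a ^ M) hc) (Ideal.mul_mem_left _ (C a ^ N) hd)
    convert this using 1
    simp only [map_add, map_mul, map_pow, pow_add]
    ring
  | mul_X p j hp =>
    obtain ⟨N, c, hc⟩ := hp
    refine ⟨N + 1, c * h j, ?_⟩
    have := sub_mem (Ideal.mul_mem_left _ (C a * X j) hc)
      (Ideal.mul_mem_left _ (C c) (Ideal.subset_span ⟨j, rfl⟩))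
    convert this using 1
    simp only [map_mul, pow_succ, rel]
    ring

theorem pow_mul_mem_of_aeval_eq_zero (I : Ideal A) (ha : a ∈ I) (hh : ∀ j, h j ∈ I)
    {x : MvPolynomial (Fin n) A}
    (hx : aeval (fun j => BlowUpLib.frac I ⟨h j, hh j⟩ ⟨a, ha⟩) x = 0) :
    ∃ N : ℕ, C a ^ N * x ∈ Ideal.span (Set.range (rel a h)) := by
  obtain ⟨N, c, hc⟩ := exists_reduce a h x
  let B := BlowUp.affineAlgebra A I a
  let φ : MvPolynomial (Fin n) A →ₐ[A] B :=
    aeval (fun j => BlowUpLib.frac I ⟨h j, hh j⟩ ⟨a, ha⟩)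
  have hle : Ideal.span (Set.range (rel a h)) ≤ RingHom.ker φ := by
    rw [Ideal.span_le]
    rintro _ ⟨j, rfl⟩
    have e := BlowUpLib.frac_mul I ⟨h j, hh j⟩ ⟨a, ha⟩
    rw [SetLike.mem_coe, RingHom.mem_ker, rel, map_sub, map_mul, aeval_C, aeval_C, aeval_X, ← e,
      mul_comm, sub_self]
  have h0 : algebraMap A B c = 0 := by
    have := hle hc
    rw [RingHom.mem_ker, map_sub, map_mul, aeval_C] at this
    rw [show φ x = 0 from hx, mul_zero, zero_sub, neg_eq_zero] at this
    exact this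
  obtain ⟨⟨_, m, rfl⟩, hm⟩ := (IsLocalization.map_eq_zero_iff (Submonoid.powers a)
    (Localization.Away a) c).mp (congrArg Subtype.val h0)
  refine ⟨m + N, ?_⟩
  have := Ideal.mul_mem_left _ (C a ^ m) hc
  rw [mul_sub, ← map_pow, ← map_mul] at this
  rw [show a ^ m * c = 0 from hm, map_zero, sub_zero, map_pow, ← mul_assoc, ← pow_add] at this
  exact this

theorem aeval_frac_surjective (I : Ideal A) (hI : I = Ideal.ofList (a :: List.ofFn h))
    (ha : a ∈ I) (hh : ∀ j, h j ∈ I) :
    Function.Surjective (aeval (R := A) (fun j => BlowUpLib.frac I ⟨h j, hh j⟩ ⟨a, ha⟩)) := by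
  let φ : MvPolynomial (Fin n) A →ₐ[A] BlowUp.affineAlgebra A I a :=
    aeval (fun j => BlowUpLib.frac I ⟨h j, hh j⟩ ⟨a, ha⟩)
  let ψ := (BlowUp.affineAlgebra A I a).val.comp φ
  let u : Localization.Away a := IsLocalization.mk' _ (1 : A) (⟨a, Submonoid.mem_powers a⟩ : Submonoid.powers a)
  have key : ∀ x ∈ I, algebraMap A (Localization.Away a) x * u ∈ ψ.range := by
    intro x hx
    rw [hI] at hx
    refine Submodule.span_induction ?_ ?_ ?_ ?_ hx
    · intro y hy
      rcases List.mem_cons.mp hy with rfl | hy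
      · rw [← IsLocalization.mk'_eq_mul_mk'_one, IsLocalization.mk'_self]
        exact one_mem _
      · obtain ⟨j, rfl⟩ := List.mem_ofFn.mp hy
        refine ⟨X j, ?_⟩
        rw [← IsLocalization.mk'_eq_mul_mk'_one]
        exact congrArg Subtype.val (aeval_X _ j)
    · rw [map_zero, zero_mul]; exact zero_mem _
    · intro y z _ _ hy hz; rw [map_add, add_mul]; exact add_mem hy hz
    · intro r y _ hy
      rw [smul_eq_mul, map_mul, mul_assoc]
      exact mul_mem (ψ.range.algebraMap_mem r) hy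
  have hle : BlowUp.affineAlgebra A I a ≤ ψ.range := by
    refine Algebra.adjoin_le ?_
    rintro _ ⟨x, hx, rfl⟩
    rw [IsLocalization.mk'_eq_mul_mk'_one]
    exact key x hx
  rintro ⟨q, hq⟩
  obtain ⟨x, hx⟩ := hle hq
  exact ⟨x, Subtype.ext hx⟩

/-- The chart of `a` of the blow-up of a Cohen–Macaulay ring in an ideal generated by a regular
sequence containing `a` is Cohen–Macaulay at the points over the centre. -/
theorem isCMLocal_affineAlgebra [hA : LocCoh.IsCohenMacaulayRing A] {rs : List A}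
    (hrs : IsWeaklyRegular A rs) (hperm : List.Perm rs (a :: List.ofFn h))
    (I : Ideal A) (hI : I = Ideal.ofList (a :: List.ofFn h))
    (P : Ideal (BlowUp.affineAlgebra A I a)) [P.IsPrime]
    (hP : ∀ r ∈ rs, algebraMap A (BlowUp.affineAlgebra A I a) r ∈ P) :
    LocCoh.IsCohenMacaulayLocalRing (Localization.AtPrime P) := by
  have hmemI : ∀ r ∈ a :: List.ofFn h, r ∈ I := fun r hr => hI ▸ Ideal.subset_span hr
  have ha : a ∈ I := hmemI a (List.mem_cons_self)
  have hh : ∀ j, h j ∈ I := fun j => hmemI _ (List.mem_cons_of_mem _ (List.mem_ofFn.mpr ⟨j, rfl⟩))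
  let φ : MvPolynomial (Fin n) A →ₐ[A] BlowUp.affineAlgebra A I a :=
    aeval (fun j => BlowUpLib.frac I ⟨h j, hh j⟩ ⟨a, ha⟩)
  have hφ : Function.Surjective φ := aeval_frac_surjective a h I hI ha hh
  let Q : Ideal (MvPolynomial (Fin n) A) := P.comap φ.toRingHom
  haveI : LocCoh.IsCohenMacaulayRing (MvPolynomial (Fin n) A) := S2092.result n
  let SQ := Localization.AtPrime Q
  haveI hSQ : LocCoh.IsCohenMacaulayLocalRing SQ :=
    LocCoh.IsCohenMacaulayRing.isCohenMacaulayLocalRing_localization Q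
  haveI : Module.Flat (MvPolynomial (Fin n) A) SQ := IsLocalization.flat SQ Q.primeCompl
  haveI : Module.Flat A SQ := Module.Flat.trans A (MvPolynomial (Fin n) A) SQ
  let ι := algebraMap (MvPolynomial (Fin n) A) SQ
  let gs : List SQ := List.ofFn fun j => ι (rel a h j)
  let a' : SQ := ι (C a)
  have hrel : ∀ j, φ (rel a h j) = 0 := fun j => by
    have e := BlowUpLib.frac_mul I ⟨h j, hh j⟩ ⟨a, ha⟩
    rw [rel, map_sub, map_mul, aeval_C, aeval_C, aeval_X, ← e, mul_comm, sub_self]
  have hgs : ∀ g ∈ gs, g ∈ maximalIdeal SQ := by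
    intro g hg
    obtain ⟨j, rfl⟩ := List.mem_ofFn.mp hg
    refine (IsLocalization.AtPrime.to_map_mem_maximal_iff SQ Q (rel a h j)).mpr ?_
    show φ (rel a h j) ∈ P
    rw [hrel j]; exact P.zero_mem
  have hmap : ∀ r ∈ rs, algebraMap A SQ r ∈ maximalIdeal SQ := fun r hr => by
    rw [IsScalarTower.algebraMap_apply A (MvPolynomial (Fin n) A) SQ,
      IsLocalization.AtPrime.to_map_mem_maximal_iff SQ Q]
    show φ (algebraMap A _ r) ∈ P
    rw [φ.commutes]; exact hP r hr
  have ha' : a' ∈ maximalIdeal SQ := by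
    have := hmap a (hperm.mem_iff.mpr List.mem_cons_self)
    rwa [IsScalarTower.algebraMap_apply A (MvPolynomial (Fin n) A) SQ] at this
  have h1 : IsWeaklyRegular SQ (a' :: List.ofFn fun j => ι (C (h j))) := by
    have h0 := IsLocalRing.isWeaklyRegular_of_perm_of_subset_maximalIdeal
      (isWeaklyRegular_map_of_flat (S := SQ) hrs) (hperm.map _)
      (fun r hr => by obtain ⟨s, hs, rfl⟩ := List.mem_map.mp hr; exact hmap s hs)
    rwa [List.map_cons, List.map_ofFn] at h0
  have h2 : IsWeaklyRegular SQ (a' :: gs) := by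
    refine isWeaklyRegular_cons_congr a' ?_ h1
    rw [List.map_ofFn, List.map_ofFn]
    refine congrArg List.ofFn (funext fun j => Ideal.Quotient.eq.mpr ?_)
    show ι (C (h j)) - ι (rel a h j) ∈ Ideal.span {a'}
    rw [Ideal.mem_span_singleton, rel, map_sub, map_mul, sub_sub_cancel]
    exact Dvd.intro _ rfl
  have h3 : IsWeaklyRegular SQ (gs ++ [a']) :=
    IsLocalRing.isWeaklyRegular_of_perm_of_subset_maximalIdeal h2 (List.perm_append_singleton a' gs).symm
      (fun r hr => by rcases List.mem_cons.mp hr with rfl | hr; exacts [ha', hgs r hr])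
  rw [isWeaklyRegular_append_iff] at h3
  obtain ⟨h4, h5⟩ := h3
  rw [isWeaklyRegular_singleton_iff] at h5
  let J : Ideal SQ := Ideal.ofList gs
  have hJ : (Ideal.span (Set.range (rel a h))).map ι = J := by
    rw [Ideal.map_span]
    refine congrArg Ideal.span ?_
    ext x
    simp [gs, List.mem_ofFn, eq_comm]
  let ψ : SQ →+* Localization.AtPrime P := Localization.localRingHom Q P φ.toRingHom rfl
  have hψι : ∀ x, ψ (ι x) = algebraMap _ (Localization.AtPrime P) (φ x) :=
    fun x => Localization.localRingHom_to_map Q P φ.toRingHom rfl x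
  have hψ : Function.Surjective ψ := by
    intro z
    obtain ⟨b, ⟨s, hs⟩, rfl⟩ := IsLocalization.exists_mk'_eq P.primeCompl z
    obtain ⟨x, rfl⟩ := hφ b
    obtain ⟨t, rfl⟩ := hφ s
    exact ⟨IsLocalization.mk' SQ x (⟨t, hs⟩ : Q.primeCompl),
      Localization.localRingHom_mk' Q P φ.toRingHom rfl x ⟨t, hs⟩⟩
  have hker : RingHom.ker ψ = J := by
    refine le_antisymm (fun z hz => ?_) ?_
    · obtain ⟨x, ⟨s, hs⟩, rfl⟩ := IsLocalization.exists_mk'_eq Q.primeCompl z
      rw [RingHom.mem_ker, Localization.localRingHom_mk', IsLocalization.mk'_eq_zero_iff] at hz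
      obtain ⟨⟨t, ht⟩, hxt⟩ := hz
      obtain ⟨t, rfl⟩ := hφ t
      have hx : φ (t * x) = 0 := by rw [map_mul]; exact hxt
      obtain ⟨N, hN⟩ := pow_mul_mem_of_aeval_eq_zero a h I ha hh hx
      have hN' := Ideal.mem_map_of_mem ι hN
      rw [hJ, map_mul, map_pow, map_mul] at hN'
      have hu : IsUnit (ι t) := IsLocalization.map_units SQ (⟨t, ht⟩ : Q.primeCompl)
      rw [IsLocalization.mk'_mem_iff]
      refine (Ideal.unit_mul_mem_iff_mem J hu).mp ?_
      have hJJ : (Ideal.ofList gs • ⊤ : Submodule SQ SQ) = J := by rw [smul_eq_mul, Ideal.mul_top]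
      have h6 : Submodule.Quotient.mk (p := (Ideal.ofList gs • ⊤ : Submodule SQ SQ)) (a' ^ N * (ι t * ι x)) = 0 := by
        rw [Submodule.Quotient.mk_eq_zero, hJJ]; exact hN'
      rw [← smul_eq_mul (a' ^ N), Submodule.Quotient.mk_smul] at h6
      have h7 := (IsSMulRegular.pow N h5).right_eq_zero_of_smul h6
      rwa [Submodule.Quotient.mk_eq_zero, hJJ] at h7
    · rw [← hJ, Ideal.map_le_iff_le_comap, Ideal.span_le]
      rintro _ ⟨j, rfl⟩
      show ψ (ι (rel a h j)) = 0
      rw [hψι, hrel, map_zero]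
  haveI := isCMLocal_quot_ofList h4 hgs
  exact cm_of_equiv (A := SQ ⧸ J) ((Ideal.quotEquivOfEq hker.symm).trans (RingHom.quotientKerEquivOfSurjective hψ))

end Groth.Agent.BlowCM
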