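import Groth.Agent.BlowCM.Basic
import Groth.Agent.BlowUpLib.Glue
import Groth.Agent.BlowUpX.Basic
import Groth.Prelude.Def_RegImm

/-!
# The blow-up of a Cohen–Macaulay scheme in a regular ideal is Cohen–Macaulay
-/

universe u

open CategoryTheory Limits AlgebraicGeometry RingTheory.Sequence

namespace Groth.Agent.BlowCM

theorem cm_stalk_of_openImmersion {Z X : Scheme.{u}} (g : Z ⟶ X) [IsOpenImmersion g] (z : Z) :
    LocCoh.IsCohenMacaulayLocalRing (Z.presheaf.stalk z) ↔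
      LocCoh.IsCohenMacaulayLocalRing (X.presheaf.stalk (g z)) :=
  ⟨fun _ => cm_of_equiv (asIso (g.stalkMap z)).symm.commRingCatIsoToRingEquiv,
    fun _ => cm_of_equiv (asIso (g.stalkMap z)).commRingCatIsoToRingEquiv⟩

theorem cm_specStalk_iff {R : CommRingCat.{u}} (x : Spec R) :
    LocCoh.IsCohenMacaulayLocalRing ((Spec R).presheaf.stalk x) ↔
      LocCoh.IsCohenMacaulayLocalRing (Localization.AtPrime x.asIdeal) := by
  let e : Localization.AtPrime x.asIdeal ≃+* (Spec R).presheaf.stalk x :=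
    (StructureSheaf.stalkIso R x).toRingEquiv
  exact ⟨fun _ => cm_of_equiv e.symm, fun _ => cm_of_equiv e⟩

variable {W T : Scheme.{u}}

theorem isCMRing_sections [IsLocallyNoetherian W]
    (hcm : ∀ w : W, LocCoh.IsCohenMacaulayLocalRing (W.presheaf.stalk w)) (U : W.affineOpens) :
    LocCoh.IsCohenMacaulayRing Γ(W, U.1) := by
  haveI : IsNoetherianRing Γ(W, U.1) := IsLocallyNoetherian.component_noetherian U
  exact ⟨fun p hp =>
    (cm_specStalk_iff (R := Γ(W, U.1)) ⟨p, hp⟩).mp ((cm_stalk_of_openImmersion U.2.fromSpec _).mpr (hcm _))⟩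

theorem isCMLocal_stalk_blowUp [IsLocallyNoetherian W]
    (hcm : ∀ w : W, LocCoh.IsCohenMacaulayLocalRing (W.presheaf.stalk w))
    (I : W.IdealSheafData) (hI : RegImm.IsRegularIdeal RegImm.Kind.regular I)
    (π : T ⟶ W) (hπ : BlowUp.IsBlowUp π I) (t : T) :
    LocCoh.IsCohenMacaulayLocalRing (T.presheaf.stalk t) := by
  by_cases hw : π t ∈ I.support
  swap
  · let V : W.Opens := I.support.compl
    haveI : IsIso (π ∣_ V) := BlowUpX.isIso_restrict hπ
    let t' : ↥(π ⁻¹ᵁ V).toScheme := ⟨t, hw⟩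
    have h1 : LocCoh.IsCohenMacaulayLocalRing (V.toScheme.presheaf.stalk ((π ∣_ V) t')) :=
      (cm_stalk_of_openImmersion V.ι _).mpr (hcm _)
    exact (cm_stalk_of_openImmersion (π ⁻¹ᵁ V).ι t').mp
      ((cm_stalk_of_openImmersion (π ∣_ V) t').mpr h1)
  obtain ⟨U, hU, rs, hrs, hIU⟩ := hI _ hw
  let A := Γ(W, U.1)
  let J : Ideal A := I.ideal U
  haveI := isCMRing_sections hcm U
  have h1 := BlowUpLib.isBlowUp_of_isPullback (isPullback_morphismRestrict π U.1) hπ
  obtain ⟨e, he⟩ := BlowUpLib.exists_iso (BlowUpLib.isBlowUp_piece I ⟨U.1, U.2⟩) h1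
  let t' : ↥(π ⁻¹ᵁ U.1).toScheme := ⟨t, hU⟩
  obtain ⟨a, P, hP⟩ := BlowUpLib.chart_covers J (e.inv t')
  -- every element of the centre lies in the prime under `P`
  let j : ∀ b : J, Spec (CommRingCat.of (BlowUp.affineAlgebra A J (b : A))) ⟶ T :=
    fun b => BlowUpLib.chart J b ≫ e.hom ≫ (π ⁻¹ᵁ U.1).ι
  have hjP : j a P = t := by
    show (π ⁻¹ᵁ U.1).ι (e.hom (BlowUpLib.chart J a P)) = t
    rw [hP, ← Scheme.Hom.comp_apply, ← Scheme.Hom.comp_apply]
    simp only [Iso.inv_hom_id_assoc, Scheme.Hom.comp_apply, Iso.inv_hom_id_apply]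
    rfl
  have hjπ : ∀ b : J, j b ≫ π = Spec.map (CommRingCat.ofHom (algebraMap A _)) ≫ U.2.fromSpec := by
    intro b
    simp only [j, Category.assoc]
    rw [← morphismRestrict_ι, reassoc_of% he]
    rw [BlowUpLib.pieceMap, Category.assoc, BlowUpLib.chart_toBase_assoc]
    exact congrArg (_ ≫ ·) U.2.isoSpec_inv_ι
  have hJP : ∀ (b : J) (Q : Spec (CommRingCat.of (BlowUp.affineAlgebra A J (b : A)))), j b Q = t →
      ∀ r ∈ J, algebraMap A (BlowUp.affineAlgebra A J (b : A)) r ∈ Q.asIdeal := by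
    intro b Q hQ r hr
    let q := Spec.map (CommRingCat.ofHom (algebraMap A (BlowUp.affineAlgebra A J (b : A)))) Q
    have hq : U.2.fromSpec q = π t := by
      show (Spec.map (CommRingCat.ofHom (algebraMap A (BlowUp.affineAlgebra A J (b : A)))) ≫
        U.2.fromSpec) Q = π t
      rw [← hjπ b, Scheme.Hom.comp_apply, hQ]
    have h2 : U.2.fromSpec q ∈ W.zeroLocus (U := U.1) (I.ideal U) := by
      rw [hq]; exact (Scheme.IdealSheafData.mem_support_iff_of_mem hU).mp hw
    have h3 : q ∈ U.2.fromSpec ⁻¹' W.zeroLocus (U := U.1) (I.ideal U) := h2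
    rw [U.2.fromSpec_preimage_zeroLocus] at h3
    exact (PrimeSpectrum.mem_zeroLocus q _).mp h3 hr
  -- pick a generator
  obtain ⟨r, hr, hrP⟩ : ∃ r : J, (r : A) ∈ rs ∧ BlowUpLib.frac J r a ∉ P.asIdeal := by
    by_contra hcon
    push Not at hcon
    have key : ∀ x (hx : x ∈ J), BlowUpLib.frac J ⟨x, hx⟩ a ∈ P.asIdeal := by
      intro x hx
      have hx' : x ∈ Ideal.ofList rs := hIU ▸ hx
      suffices h : ∃ b : BlowUp.affineAlgebra A J (a : A), b ∈ P.asIdeal ∧
          b.1 = algebraMap A (Localization.Away (a : A)) x *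
            IsLocalization.mk' (Localization.Away (a : A)) 1
              (⟨(a : A), Submonoid.mem_powers _⟩ : Submonoid.powers (a : A)) by
        obtain ⟨b, hb, hb'⟩ := h
        convert hb using 1
        exact Subtype.ext (by rw [hb', ← IsLocalization.mk'_eq_mul_mk'_one]; rfl)
      refine Submodule.span_induction ?_ ?_ ?_ ?_ hx'
      · intro y hy
        have hyJ : y ∈ J := hIU.ge (Ideal.subset_span hy)
        exact ⟨_, hcon ⟨y, hyJ⟩ hy, by rw [← IsLocalization.mk'_eq_mul_mk'_one]; rfl⟩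
      · exact ⟨0, P.asIdeal.zero_mem, by simp⟩
      · rintro y z _ _ ⟨b, hb, hb'⟩ ⟨c, hc, hc'⟩
        exact ⟨b + c, P.asIdeal.add_mem hb hc, by simp [hb', hc', add_mul]⟩
      · rintro s y _ ⟨b, hb, hb'⟩
        exact ⟨algebraMap A _ s * b, P.asIdeal.mul_mem_left _ hb, by simp [hb', mul_assoc]⟩
    apply P.isPrime.ne_top
    rw [Ideal.eq_top_iff_one]
    convert key a a.2 using 1
    exact Subtype.ext (IsLocalization.mk'_self _ _).symm
  obtain ⟨Q, hQ⟩ := BlowUpLib.chart_overlap J r a hrP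
  have hjQ : j r Q = t := by
    rw [← hjP]
    show (π ⁻¹ᵁ U.1).ι (e.hom (BlowUpLib.chart J r Q)) = _
    rw [hQ]
    rfl
  classical
  let l := rs.erase (r : A)
  have hperm : List.Perm rs ((r : A) :: List.ofFn l.get) := by
    rw [List.ofFn_get]; exact List.perm_cons_erase hr
  have hJ : J = Ideal.ofList ((r : A) :: List.ofFn l.get) :=
    hIU.trans (congrArg Ideal.span (Set.ext fun x => hperm.mem_iff))
  have h4 := isCMLocal_affineAlgebra (r : A) l.get hrs.toIsWeaklyRegular hperm J hJ Q.asIdeal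
    (fun x hx => hJP r Q hjQ x (hIU.ge (Ideal.subset_span hx)))
  rw [← hjQ]
  exact (cm_stalk_of_openImmersion (j r) Q).mp ((cm_specStalk_iff Q).mpr h4)

end Groth.Agent.BlowCM
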